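import Mathlib

/-! Flat deformations of smooth algebras over `k[X]/(X^(n+1))`. -/

set_option autoImplicit false
universe u

open scoped TensorProduct Polynomial
open Polynomial

namespace Groth.Agent.DefTruncLib

variable (k : Type u) [Field k] (n : ℕ)
  (D : Type u) [CommRing D] [Algebra k D] (τ : D)
  (e : (k[X] ⧸ Ideal.span {(X : k[X]) ^ (n + 1)}) ≃ₐ[k] D)
  (he : e (Ideal.Quotient.mk (Ideal.span {(X : k[X]) ^ (n + 1)}) X) = τ)

include he in
theorem aeval_tau (P : k[X]) : e (Ideal.Quotient.mk _ P) = aeval τ P := by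
  refine congrArg (fun φ : k[X] →ₐ[k] D => φ P) (Polynomial.algHom_ext (f := e.toAlgHom.comp (Ideal.Quotient.mkₐ k _)) (g := aeval τ) ?_)
  simpa using he

include he in
theorem tau_pow : τ ^ (n + 1) = 0 := by
  have h := aeval_tau k n D τ e he (X ^ (n + 1))
  rw [Ideal.Quotient.eq_zero_iff_mem.2 (Ideal.mem_span_singleton_self _), map_zero, map_pow, aeval_X] at h
  exact h.symm

include he in
theorem exists_aeval (d : D) : ∃ P : k[X], aeval τ P = d := by
  obtain ⟨P, hP⟩ := Ideal.Quotient.mk_surjective (e.symm d)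
  exact ⟨P, by rw [← aeval_tau k n D τ e he, hP, e.apply_symm_apply]⟩

include he in
theorem exists_const (d : D) : ∃ c : k, d - algebraMap k D c ∈ Ideal.span {τ} := by
  obtain ⟨P, rfl⟩ := exists_aeval k n D τ e he d
  refine ⟨P.coeff 0, Ideal.mem_span_singleton.2 ⟨aeval τ P.divX, ?_⟩⟩
  have h := congrArg (aeval τ) P.X_mul_divX_add
  rw [map_add, map_mul, aeval_X, aeval_C] at h
  linear_combination -h

include he in
theorem prime_eq (p : Ideal D) [p.IsPrime] : p = Ideal.span {τ} := by
  have hτ : τ ∈ p := Ideal.IsPrime.mem_of_pow_mem inferInstance (n + 1) (by rw [tau_pow k n D τ e he]; exact p.zero_mem)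
  refine le_antisymm (fun d hd => ?_) (Ideal.span_le.2 (Set.singleton_subset_iff.2 hτ))
  obtain ⟨c, hc⟩ := exists_const k n D τ e he d
  have hc' : algebraMap k D c ∈ p := by
    have := p.sub_mem hd (Ideal.span_le.2 (Set.singleton_subset_iff.2 hτ) hc)
    rwa [sub_sub_cancel] at this
  rcases eq_or_ne c 0 with rfl | hc0
  · simpa using hc
  · exact absurd (Ideal.eq_top_of_isUnit_mem _ hc' ((Ne.isUnit hc0).map _)) Ideal.IsPrime.ne_top'

include e he in
theorem smooth (B : Type u) [CommRing B] [Algebra k B] [Algebra D B] [IsScalarTower k D B]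
    [Algebra.FiniteType k B] [Module.Flat D B]
    (t : B) (ht : t = algebraMap D B τ) (hsm : Algebra.Smooth k (B ⧸ Ideal.span {t})) : Algebra.Smooth D B := by
  haveI : IsNoetherianRing D := isNoetherianRing_of_ringEquiv _ e.toRingEquiv
  haveI : Algebra.FiniteType D B := Algebra.FiniteType.of_restrictScalars_finiteType k D B
  haveI : Algebra.FinitePresentation D B := Algebra.FinitePresentation.of_finiteType.1 inferInstance
  refine Algebra.Smooth.of_formallySmooth_fiber fun p hp => ?_
  haveI := hp
  have hp' := prime_eq k n D τ e he p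
  haveI : p.IsMaximal := by
    obtain ⟨m, hm, hpm⟩ := p.exists_le_maximal hp.ne_top
    haveI := hm.isPrime
    rwa [hp', ← prime_eq k n D τ e he m]
  let ρ₀ : D ⧸ p →ₐ[D] B ⧸ Ideal.span {t} :=
    Ideal.Quotient.liftₐ p (Algebra.ofId D _) fun d hd => by
      rw [hp', Ideal.mem_span_singleton] at hd
      obtain ⟨c, rfl⟩ := hd
      rw [map_mul]
      have h0 : Algebra.ofId D (B ⧸ Ideal.span {t}) τ = 0 := by
        show Ideal.Quotient.mk _ (algebraMap D B τ) = 0
        rw [← ht, Ideal.Quotient.eq_zero_iff_mem]; exact Ideal.mem_span_singleton_self t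
      rw [h0, zero_mul]
  let κe : (D ⧸ p) ≃ₐ[D] p.ResidueField :=
    AlgEquiv.ofBijective (IsScalarTower.toAlgHom D (D ⧸ p) p.ResidueField) p.bijective_algebraMap_quotient_residueField
  let toB : p.Fiber B →ₐ[D] B ⧸ Ideal.span {t} :=
    Algebra.TensorProduct.lift (ρ₀.comp κe.symm.toAlgHom) (Ideal.Quotient.mkₐ D _) fun _ _ => .all _ _
  let ofB : B ⧸ Ideal.span {t} →ₐ[D] p.Fiber B :=
    Ideal.Quotient.liftₐ _ (Algebra.TensorProduct.includeRight) fun b hb => by
      obtain ⟨c, rfl⟩ := Ideal.mem_span_singleton.1 hb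
      have h0 : algebraMap D p.ResidueField τ = 0 := by
        rw [Ideal.algebraMap_residueField_eq_zero, hp']
        exact Ideal.mem_span_singleton_self τ
      show (1 : p.ResidueField) ⊗ₜ[D] (t * c) = 0
      rw [ht, ← Algebra.smul_def, TensorProduct.tmul_smul, TensorProduct.smul_tmul', Algebra.smul_def, mul_one, h0,
        TensorProduct.zero_tmul]
  have hκ : ∀ x : p.ResidueField, ∃ c : k, algebraMap k p.ResidueField c = x := by
    intro x
    obtain ⟨y, rfl⟩ := κe.surjective x
    obtain ⟨d, rfl⟩ := Ideal.Quotient.mk_surjective y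
    obtain ⟨c, hc⟩ := exists_const k n D τ e he d
    refine ⟨c, ?_⟩
    rw [IsScalarTower.algebraMap_apply k D p.ResidueField]
    show κe (algebraMap D (D ⧸ p) (algebraMap k D c)) = κe (Ideal.Quotient.mk p d)
    congr 1
    rw [Ideal.Quotient.algebraMap_eq, eq_comm, Ideal.Quotient.eq, hp']
    exact hc
  haveI : Algebra.FormallyUnramified k p.ResidueField :=
    Algebra.FormallyUnramified.of_surjective (Algebra.ofId k p.ResidueField) hκ
  let E : (B ⧸ Ideal.span {t}) ≃ₐ[D] p.Fiber B := AlgEquiv.ofAlgHom ofB toB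
    (Algebra.TensorProduct.ext (AlgHom.ext fun x => by
      obtain ⟨y, rfl⟩ := κe.surjective x
      obtain ⟨d, rfl⟩ := Ideal.Quotient.mk_surjective y
      have : κe (Ideal.Quotient.mk p d) = algebraMap D p.ResidueField d := κe.commutes d
      simp only [this, AlgHom.commutes]) (AlgHom.ext fun b => by
      show ofB (toB (1 ⊗ₜ b)) = 1 ⊗ₜ b
      simp only [toB, Algebra.TensorProduct.lift_tmul, map_one, one_mul]
      rfl))
    (Ideal.Quotient.algHom_ext _ (AlgHom.ext fun b => by
      show toB ((1 : p.ResidueField) ⊗ₜ b) = _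
      simp [toB]))
  haveI : Algebra.FormallySmooth k (p.Fiber B) := Algebra.FormallySmooth.of_equiv (E.restrictScalars k)
  exact Algebra.FormallySmooth.of_restrictScalars k p.ResidueField (p.Fiber B)

variable (B : Type u) [CommRing B] [Algebra k B] [Algebra D B] [IsScalarTower k D B] (t : B)
  (ht : t = algebraMap D B τ)

/-- The truncation. -/
abbrev Q := B ⧸ Ideal.span {t ^ n}

include ht e he in
/-- A derivation taking `t` to `1`. -/
theorem exists_retraction [Algebra.FormallySmooth D B] :
    ∃ p : Ω[B⁄k] →ₗ[B] Q n B t, p (KaehlerDifferential.D k B t) = 1 := by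
  let w : TrivSqZeroExt B (Q n B t) := TrivSqZeroExt.inl t + TrivSqZeroExt.inr 1
  have hw1 : w.fst = t := by simp [w]
  have hw2 : w.snd = 1 := by simp [w]
  have hw : w ^ (n + 1) = 0 := by
    refine TrivSqZeroExt.ext ?_ ?_
    · rw [TrivSqZeroExt.fst_pow, TrivSqZeroExt.fst_zero, hw1]
      exact (congrArg (· ^ (n + 1)) ht).trans (by rw [← map_pow, tau_pow k n D τ e he, map_zero])
    · rw [TrivSqZeroExt.snd_pow, TrivSqZeroExt.snd_zero, hw1, hw2, Nat.pred_succ]
      rw [show t ^ n • (1 : Q n B t) = 0 from (Algebra.smul_def _ _).trans (by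
        rw [mul_one]; exact Ideal.Quotient.eq_zero_iff_mem.2 (Ideal.mem_span_singleton_self _)), smul_zero]
  let f₀ : (k[X] ⧸ Ideal.span {(X : k[X]) ^ (n + 1)}) →ₐ[k] TrivSqZeroExt B (Q n B t) :=
    Ideal.Quotient.liftₐ _ (aeval w) fun P hP => by
      obtain ⟨c, rfl⟩ := Ideal.mem_span_singleton.1 hP
      rw [map_mul, map_pow, aeval_X, hw, zero_mul]
  let f : D →ₐ[k] TrivSqZeroExt B (Q n B t) := f₀.comp e.symm.toAlgHom
  have hf : ∀ P : k[X], f (aeval τ P) = aeval w P := fun P => by
    rw [← aeval_tau k n D τ e he]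
    simp [f, f₀]
  letI : Algebra D (TrivSqZeroExt B (Q n B t)) := f.toRingHom.toAlgebra
  have hfst : ∀ d : D, (algebraMap D (TrivSqZeroExt B (Q n B t)) d).fst = algebraMap D B d := fun d => by
    obtain ⟨P, rfl⟩ := exists_aeval k n D τ e he d
    show (f (aeval τ P)).fst = _
    rw [hf]
    refine (Polynomial.aeval_algHom_apply (TrivSqZeroExt.fstHom k B (Q n B t)) w P).symm.trans ?_
    rw [← aeval_algebraMap_apply, ← ht]
    congr 2
  let π : TrivSqZeroExt B (Q n B t) →ₐ[D] B := { (TrivSqZeroExt.fstHom k B (Q n B t)).toRingHom with commutes' := hfst }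
  have hπ : Function.Surjective π := fun b => ⟨TrivSqZeroExt.inl b, rfl⟩
  have hnil : IsNilpotent (RingHom.ker π.toRingHom) := ⟨2, by
    rw [Submodule.pow_succ, Submodule.pow_one, Ideal.zero_eq_bot, eq_bot_iff, Ideal.mul_le]
    intro a ha b hb
    rw [RingHom.mem_ker] at ha hb
    rw [Ideal.mem_bot]
    have ha' : a.fst = 0 := ha
    have hb' : b.fst = 0 := hb
    refine TrivSqZeroExt.ext ?_ ?_
    · rw [TrivSqZeroExt.fst_mul, ha', zero_mul, TrivSqZeroExt.fst_zero]
    · rw [TrivSqZeroExt.snd_mul, ha', hb', zero_smul, MulOpposite.op_zero, zero_smul, add_zero,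
        TrivSqZeroExt.snd_zero]⟩
  let χ : B →ₐ[D] TrivSqZeroExt B (Q n B t) := Algebra.FormallySmooth.liftOfSurjective (AlgHom.id D B) π hπ hnil
  have hχ : ∀ b, (χ b).fst = b := fun b => AlgHom.congr_fun
    (Algebra.FormallySmooth.comp_liftOfSurjective (AlgHom.id D B) π hπ hnil) b
  have hχk : ∀ c : k, χ (algebraMap k B c) = TrivSqZeroExt.inl (algebraMap k B c) := fun c => by
    rw [IsScalarTower.algebraMap_apply k D B, AlgHom.commutes]
    show f (algebraMap k D c) = _
    rw [AlgHom.commutes, ← IsScalarTower.algebraMap_apply]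
    rfl
  let δ : Derivation k B (Q n B t) :=
    { toFun := fun b => (χ b).snd
      map_add' := fun a b => by rw [map_add, TrivSqZeroExt.snd_add]
      map_smul' := fun c b => by
        rw [RingHom.id_apply, Algebra.smul_def c b, map_mul, TrivSqZeroExt.snd_mul, hχk, TrivSqZeroExt.snd_inl,
          smul_zero, add_zero, TrivSqZeroExt.fst_inl, algebraMap_smul]
      map_one_eq_zero' := by show (χ 1).snd = 0; rw [map_one, TrivSqZeroExt.snd_one]
      leibniz' := fun a b => by
        show (χ (a * b)).snd = _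
        rw [map_mul, TrivSqZeroExt.snd_mul, hχ, hχ, op_smul_eq_smul]
        rfl }
  refine ⟨δ.liftKaehlerDifferential, ?_⟩
  rw [Derivation.liftKaehlerDifferential_comp_D]
  show (χ t).snd = 1
  have h2 : χ (algebraMap D B τ) = f τ := χ.commutes τ
  rw [← ht] at h2
  rw [h2]
  have := hf X
  rw [aeval_X, aeval_X] at this
  rw [this]
  simp [w]

include ht e he in
theorem pow_smul_D [CharZero k] : t ^ n • KaehlerDifferential.D k B t = 0 := by
  have h1 := congrArg (KaehlerDifferential.D k B) (show t ^ (n + 1) = 0 by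
    rw [ht, ← map_pow, tau_pow k n D τ e he, map_zero])
  rw [Derivation.leibniz_pow, map_zero, Nat.add_sub_cancel, ← Nat.cast_smul_eq_nsmul k] at h1
  exact (smul_eq_zero_iff_right (Nat.cast_ne_zero.2 n.succ_ne_zero)).1 h1

include ht e he in
theorem range_le_span : LinearMap.range (KaehlerDifferential.mapBaseChange k D B) ≤
    Submodule.span B {KaehlerDifferential.D k B t} := by
  rintro _ ⟨z, rfl⟩
  induction z using TensorProduct.induction_on with
  | zero => rw [map_zero]; exact zero_mem _
  | add a b ha hb => rw [map_add]; exact add_mem ha hb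
  | tmul b η =>
    rw [KaehlerDifferential.mapBaseChange_tmul]
    refine Submodule.smul_mem _ _ ?_
    have h : η ∈ Submodule.span D (Set.range (KaehlerDifferential.D k D)) := by
      rw [KaehlerDifferential.span_range_derivation]; trivial
    induction h using Submodule.span_induction with
    | zero => rw [map_zero]; exact zero_mem _
    | add a b _ _ ha hb => rw [map_add]; exact add_mem ha hb
    | smul r a _ ha => rw [map_smul, ← algebraMap_smul B r]; exact Submodule.smul_mem _ _ ha
    | mem a ha =>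
      obtain ⟨d, rfl⟩ := ha
      obtain ⟨P, rfl⟩ := exists_aeval k n D τ e he d
      rw [KaehlerDifferential.map_D, ← aeval_algebraMap_apply, ← ht, Derivation.map_aeval]
      exact Submodule.smul_mem _ _ (Submodule.mem_span_singleton_self _)

include ht e he in
theorem exact_dt : Function.Exact (LinearMap.toSpanSingleton B Ω[B⁄k] (KaehlerDifferential.D k B t))
    (KaehlerDifferential.map k D B B) := by
  intro η
  constructor
  · intro h
    have h1 : η ∈ LinearMap.range (KaehlerDifferential.mapBaseChange k D B) :=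
      (KaehlerDifferential.exact_mapBaseChange_map k D B η).1 h
    obtain ⟨b, rfl⟩ := Submodule.mem_span_singleton.1 (range_le_span k n D τ e he B t ht h1)
    exact ⟨b, rfl⟩
  · rintro ⟨b, rfl⟩
    rw [LinearMap.toSpanSingleton_apply, map_smul, KaehlerDifferential.map_D]
    rw [show (KaehlerDifferential.D D B) (algebraMap B B t) = 0 by
      rw [Algebra.algebraMap_self_apply, ht]; exact Derivation.map_algebraMap _ _, smul_zero]

include ht e he in
theorem exact_dt_baseChange : Function.Exact
    (LinearMap.toSpanSingleton (Q n B t) (Q n B t ⊗[B] Ω[B⁄k]) ((1 : Q n B t) ⊗ₜ[B] KaehlerDifferential.D k B t))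
    (LinearMap.baseChange (Q n B t) (KaehlerDifferential.map k D B B)) := by
  intro z
  constructor
  · intro h
    obtain ⟨y, rfl⟩ := (lTensor_exact (Q n B t) (exact_dt k n D τ e he B t ht)
      (KaehlerDifferential.map_surjective k D B) z).1 h
    induction y using TensorProduct.induction_on with
    | zero => exact ⟨0, by simp⟩
    | tmul q b =>
      refine ⟨b • q, ?_⟩
      rw [LinearMap.lTensor_tmul, LinearMap.toSpanSingleton_apply, LinearMap.toSpanSingleton_apply,
        TensorProduct.smul_tmul', smul_eq_mul, mul_one, TensorProduct.smul_tmul]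
    | add a b ha hb =>
      obtain ⟨u, hu⟩ := ha (by
        rw [← LinearMap.baseChange_eq_ltensor] at *
        exact (lTensor_exact (Q n B t) (exact_dt k n D τ e he B t ht)
          (KaehlerDifferential.map_surjective k D B) _).2 ⟨a, rfl⟩)
      obtain ⟨v, hv⟩ := hb (by
        exact (lTensor_exact (Q n B t) (exact_dt k n D τ e he B t ht)
          (KaehlerDifferential.map_surjective k D B) _).2 ⟨b, rfl⟩)
      exact ⟨u + v, by rw [map_add, hu, hv, map_add]⟩
  · rintro ⟨q, rfl⟩
    rw [LinearMap.toSpanSingleton_apply, map_smul, LinearMap.baseChange_tmul]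
    rw [(exact_dt k n D τ e he B t ht (KaehlerDifferential.D k B t)).2 ⟨1, by simp⟩, TensorProduct.tmul_zero, smul_zero]

end Groth.Agent.DefTruncLib
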